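import Groth.Prelude.Def_W4bk4git07Quot
import Groth.Prelude.Def_AlgGrp
import Mathlib.AlgebraicGeometry.Morphisms.ClosedImmersion
import Mathlib.AlgebraicGeometry.PullbackCarrier

/-!
# Orbits over a geometric quotient are closed
-/

set_option autoImplicit false
set_option linter.style.haveILetI false
universe u

open CategoryTheory CategoryTheory.Limits MonoidalCategory CartesianMonoidalCategory MonObj AlgebraicGeometry

namespace Groth.Agent.GeomQuotClosed

/-- A section over a point scheme has closed image. -/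
theorem isClosed_range_section {X T : Scheme.{u}} [Subsingleton T] [IsAffine T] (σ : T ⟶ X) (p : X ⟶ T)
    (h : σ ≫ p = 𝟙 T) : IsClosed (Set.range σ) := by
  rw [(TopologicalSpace.IsOpenCover.mk (iSup_affineOpens_eq_top X)).isClosed_iff_coe_preimage]
  intro V
  by_cases hV : ∃ t, σ t ∈ V.1
  · obtain ⟨t, ht⟩ := hV
    have hle : Set.range σ ⊆ (V.1 : Set X) := by
      rintro _ ⟨t', rfl⟩; rwa [Subsingleton.elim t' t]
    let σ' : T ⟶ (V.1 : Scheme.{u}) := IsOpenImmersion.lift V.1.ι σ (by simpa using hle)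
    have hσ : σ' ≫ V.1.ι = σ := IsOpenImmersion.lift_fac _ _ _
    haveI : IsAffine (V.1 : Scheme.{u}) := V.2
    haveI : IsClosedImmersion (σ' ≫ V.1.ι ≫ p) := by rw [← Category.assoc, hσ, h]; infer_instance
    haveI : IsClosedImmersion σ' := IsClosedImmersion.of_comp σ' (V.1.ι ≫ p)
    have e : (Subtype.val ⁻¹' Set.range σ : Set (V.1 : Scheme.{u})) = Set.range σ' := by
      ext v
      constructor
      · rintro ⟨t', ht'⟩
        refine ⟨t', Subtype.ext ?_⟩
        rw [← ht', ← hσ]
        rfl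
      · rintro ⟨t', rfl⟩
        exact ⟨t', by rw [← hσ]; rfl⟩
    exact e ▸ σ'.isClosedEmbedding.isClosed_range
  · convert isClosed_empty
    ext v
    simp only [Set.mem_preimage, Set.mem_range, Set.mem_empty_iff_false, iff_false]
    rintro ⟨t, ht⟩
    exact hV ⟨t, ht ▸ v.2⟩

variable {S : Scheme.{u}} {G X Y : Over S} [GrpObj G]

theorem range_psi {T : Over S} (a : AlgGrp.Action G X) (φ : X ⟶ Y) (h : GIT.IsGeomQuot a φ) (f : T ⟶ X) :
    Set.range (GIT.psi a f).left.base =
      (φ ▷ T).left.base ⁻¹' Set.range (lift (f ≫ φ) (𝟙 T)).left.base := by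
  ext w
  constructor
  · rintro ⟨z, rfl⟩
    have e : GIT.psi a f ≫ φ ▷ T = snd G T ≫ lift (f ≫ φ) (𝟙 T) := by
      have hinv : a.act ≫ φ = snd G X ≫ φ := h.inv
      apply CartesianMonoidalCategory.hom_ext
      · simp only [GIT.psi, Category.assoc, whiskerRight_fst, lift_fst_assoc, lift_fst]
        rw [hinv, whiskerLeft_snd_assoc]
      · simp [GIT.psi]
    exact ⟨(snd G T).left z, (congrArg (fun m : G ⊗ T ⟶ Y ⊗ T => m.left z) e).symm⟩
  · intro hw
    let P := pullback (φ ▷ T).left (lift (f ≫ φ) (𝟙 T)).left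
    obtain ⟨q, rfl⟩ : w ∈ Set.range (pullback.fst (φ ▷ T).left (lift (f ≫ φ) (𝟙 T)).left) := by
      rw [Scheme.Pullback.range_fst]; exact hw
    let Q : Over S := Over.mk (pullback.fst (φ ▷ T).left (lift (f ≫ φ) (𝟙 T)).left ≫ (X ⊗ T).hom)
    let p1 : Q ⟶ X ⊗ T := Over.homMk (pullback.fst _ _) rfl
    let p2 : Q ⟶ T := Over.homMk (pullback.snd _ _) (by
      show pullback.snd _ _ ≫ T.hom = pullback.fst _ _ ≫ (X ⊗ T).hom
      rw [← Over.w (φ ▷ T), pullback.condition_assoc, Over.w])
    have hp : p1 ≫ φ ▷ T = p2 ≫ lift (f ≫ φ) (𝟙 T) := Over.OverMorphism.ext pullback.condition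
    have hp2 : p1 ≫ snd X T = p2 := by
      have := hp =≫ snd Y T
      simpa using this
    have hp1 : (p1 ≫ fst X T) ≫ φ = (p2 ≫ f) ≫ φ := by
      have := hp =≫ fst Y T
      simpa using this
    let v : Q.left ⟶ pullback φ.left φ.left := pullback.lift (p1 ≫ fst X T).left (p2 ≫ f).left
      (congrArg CommaMorphism.left hp1)
    haveI : Surjective (GIT.PsiY a φ h.inv) := ⟨h.orbit⟩
    haveI : Surjective (pullback.snd (GIT.PsiY a φ h.inv) v) := inferInstance
    obtain ⟨r, hr⟩ := (pullback.snd (GIT.PsiY a φ h.inv) v).surjective q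
    have c1 : pullback.fst (GIT.PsiY a φ h.inv) v ≫ a.act.left =
        pullback.snd (GIT.PsiY a φ h.inv) v ≫ (p1 ≫ fst X T).left := by
      have := pullback.condition (f := GIT.PsiY a φ h.inv) (g := v) =≫ pullback.fst φ.left φ.left
      simpa [GIT.PsiY, v, pullback.lift_fst] using this
    have c2 : pullback.fst (GIT.PsiY a φ h.inv) v ≫ (snd G X).left =
        pullback.snd (GIT.PsiY a φ h.inv) v ≫ (p2 ≫ f).left := by
      have := pullback.condition (f := GIT.PsiY a φ h.inv) (g := v) =≫ pullback.snd φ.left φ.left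
      simpa [GIT.PsiY, v, pullback.lift_snd] using this
    let R : Over S := Over.mk (pullback.snd (GIT.PsiY a φ h.inv) v ≫ Q.hom)
    let r1 : R ⟶ G ⊗ X := Over.homMk (pullback.fst _ _) (by
      show pullback.fst _ _ ≫ (G ⊗ X).hom = pullback.snd _ _ ≫ Q.hom
      rw [← Over.w (snd G X), ← Category.assoc, c2, Category.assoc, Over.w])
    let r2 : R ⟶ Q := Over.homMk (pullback.snd _ _) rfl
    have d1 : r1 ≫ a.act = r2 ≫ p1 ≫ fst X T := Over.OverMorphism.ext c1
    have d2 : r1 ≫ snd G X = r2 ≫ p2 ≫ f := Over.OverMorphism.ext c2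
    have hg : lift (r1 ≫ fst G X) (r2 ≫ p2) ≫ G ◁ f = r1 := by
      apply CartesianMonoidalCategory.hom_ext
      · simp
      · rw [d2]; simp
    have hfin : lift (r1 ≫ fst G X) (r2 ≫ p2) ≫ GIT.psi a f = r2 ≫ p1 := by
      apply CartesianMonoidalCategory.hom_ext
      · simp only [GIT.psi, Category.assoc, lift_fst]
        rw [← Category.assoc, hg, d1]
      · simp [GIT.psi, hp2]
    refine ⟨(lift (r1 ≫ fst G X) (r2 ≫ p2)).left r, ?_⟩
    refine (congrArg (fun m : R ⟶ X ⊗ T => m.left r) hfin).trans ?_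
    show (pullback.fst (φ ▷ T).left (lift (f ≫ φ) (𝟙 T)).left) ((pullback.snd (GIT.PsiY a φ h.inv) v) r) = _
    rw [hr]

theorem isClosedAction (a : AlgGrp.Action G X) (φ : X ⟶ Y) (h : GIT.IsGeomQuot a φ) : GIT.IsClosedAction a := by
  intro Ω _ _ T e f
  rw [range_psi a φ h f]
  refine IsClosed.preimage (φ ▷ T).left.continuous ?_
  haveI : IsAffine T.left := .of_isIso e.hom
  haveI : Subsingleton T.left := e.hom.homeomorph.subsingleton
  refine isClosed_range_section _ (snd Y T).left ?_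
  rw [← Over.comp_left, lift_snd]
  rfl

end Groth.Agent.GeomQuotClosed
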